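import Cfsg.Agent.Nodes.SimplyLaced
import Cfsg.Agent.Nodes.RGDChev

/-!
# S5765: two finite checks in the root system `E₆` (helper61)

* `three_orth`, `four_orth`, `five_orth` : mutually orthogonal roots;
* `a2_triple`, `A2T.fix` : the roots orthogonal to a subsystem `A₂` form a subsystem `2 A₂`.
-/

set_option autoImplicit false
set_option linter.unusedSectionVars false

namespace Cfsg.Agent.SB.Exc.W

open CoxeterSystem Cfsg Cfsg.Lie Cfsg.Lie.ChevalleyDatum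
open Cfsg.Agent.ChevalleyStructure.CoxeterGeom Cfsg.Agent.ChevalleyStructure.CoxeterGeomTypes
  Cfsg.Agent.Tits.Roots Cfsg.Agent.Nodes.RGDChev Cfsg.Agent.Nodes.Coroot

/-! ### the tables -/

/-- six integers -/
abbrev T6 : Type := ℤ × ℤ × ℤ × ℤ × ℤ × ℤ

/-- the vector -/
def tv (x : T6) : Fin 6 → ℤ := ![x.1, x.2.1, x.2.2.1, x.2.2.2.1, x.2.2.2.2.1, x.2.2.2.2.2]

/-- the tuple -/
def vt (x : Fin 6 → ℤ) : T6 := (x 0, x 1, x 2, x 3, x 4, x 5)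

theorem tv_vt (x : Fin 6 → ℤ) : tv (vt x) = x := by
  funext i; fin_cases i <;> rfl

/-- the pairings with the simple roots -/
def co (y : T6) : T6 :=
  (2 * y.1 - y.2.2.1, 2 * y.2.1 - y.2.2.2.1, 2 * y.2.2.1 - y.1 - y.2.2.2.1,
    2 * y.2.2.2.1 - y.2.1 - y.2.2.1 - y.2.2.2.2.1, 2 * y.2.2.2.2.1 - y.2.2.2.1 - y.2.2.2.2.2,
    2 * y.2.2.2.2.2 - y.2.2.2.2.1)

/-- the standard product -/
def dt (x y : T6) : ℤ := x.1 * y.1 + x.2.1 * y.2.1 + x.2.2.1 * y.2.2.1 + x.2.2.2.1 * y.2.2.2.1 +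
  x.2.2.2.2.1 * y.2.2.2.2.1 + x.2.2.2.2.2 * y.2.2.2.2.2

/-- the invariant form -/
def ip (x y : T6) : ℤ := dt x (co y)

/-- the roots -/
def RL : List T6 :=
  [(-1, -2, -2, -3, -2, -1), (-1, -1, -2, -3, -2, -1), (-1, -1, -2, -2, -2, -1), (-1, -1, -2, -2, -1, -1), (-1, -1,
   -2, -2, -1, 0), (-1, -1, -1, -2, -2, -1), (-1, -1, -1, -2, -1, -1), (-1, -1, -1, -2, -1, 0), (-1, -1, -1, -1,
   -1, -1), (-1, -1, -1, -1, -1, 0), (-1, -1, -1, -1, 0, 0), (-1, 0, -1, -1, -1, -1), (-1, 0, -1, -1, -1, 0), (-1,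
   0, -1, -1, 0, 0), (-1, 0, -1, 0, 0, 0), (-1, 0, 0, 0, 0, 0), (0, -1, -1, -2, -2, -1), (0, -1, -1, -2, -1, -1),
   (0, -1, -1, -2, -1, 0), (0, -1, -1, -1, -1, -1), (0, -1, -1, -1, -1, 0), (0, -1, -1, -1, 0, 0), (0, -1, 0, -1,
   -1, -1), (0, -1, 0, -1, -1, 0), (0, -1, 0, -1, 0, 0), (0, -1, 0, 0, 0, 0), (0, 0, -1, -1, -1, -1), (0, 0, -1,
   -1, -1, 0), (0, 0, -1, -1, 0, 0), (0, 0, -1, 0, 0, 0), (0, 0, 0, -1, -1, -1), (0, 0, 0, -1, -1, 0), (0, 0, 0,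
   -1, 0, 0), (0, 0, 0, 0, -1, -1), (0, 0, 0, 0, -1, 0), (0, 0, 0, 0, 0, -1), (0, 0, 0, 0, 0, 1), (0, 0, 0, 0, 1,
   0), (0, 0, 0, 0, 1, 1), (0, 0, 0, 1, 0, 0), (0, 0, 0, 1, 1, 0), (0, 0, 0, 1, 1, 1), (0, 0, 1, 0, 0, 0), (0, 0,
   1, 1, 0, 0), (0, 0, 1, 1, 1, 0), (0, 0, 1, 1, 1, 1), (0, 1, 0, 0, 0, 0), (0, 1, 0, 1, 0, 0), (0, 1, 0, 1, 1, 0),
   (0, 1, 0, 1, 1, 1), (0, 1, 1, 1, 0, 0), (0, 1, 1, 1, 1, 0), (0, 1, 1, 1, 1, 1), (0, 1, 1, 2, 1, 0), (0, 1, 1, 2,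
   1, 1), (0, 1, 1, 2, 2, 1), (1, 0, 0, 0, 0, 0), (1, 0, 1, 0, 0, 0), (1, 0, 1, 1, 0, 0), (1, 0, 1, 1, 1, 0), (1,
   0, 1, 1, 1, 1), (1, 1, 1, 1, 0, 0), (1, 1, 1, 1, 1, 0), (1, 1, 1, 1, 1, 1), (1, 1, 1, 2, 1, 0), (1, 1, 1, 2, 1,
   1), (1, 1, 1, 2, 2, 1), (1, 1, 2, 2, 1, 0), (1, 1, 2, 2, 1, 1), (1, 1, 2, 2, 2, 1), (1, 1, 2, 3, 2, 1), (1, 2,
   2, 3, 2, 1)]

/-- the simple roots -/
def SL : List T6 :=
  [(1, 0, 0, 0, 0, 0), (0, 1, 0, 0, 0, 0), (0, 0, 1, 0, 0, 0), (0, 0, 0, 1, 0, 0), (0, 0, 0, 0, 1, 0), (0, 0, 0, 0, 0, 1)]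

/-- the elements with a given product -/
def fl (c : ℤ) (a : T6) (L : List T6) : List T6 := L.filter fun x => ip a x == c

theorem mem_fl {c : ℤ} {a x : T6} {L : List T6} : x ∈ fl c a L ↔ x ∈ L ∧ ip a x = c := by
  rw [fl, List.mem_filter, beq_iff_eq]

/-- orthogonal roots -/
def chk1 : Bool := SL.all fun a => (fl 0 a RL).all fun b => (fl 0 b (fl 0 a RL)).all fun c =>
  !(fl 0 c (fl 0 b (fl 0 a RL))).isEmpty && (fl 0 c (fl 0 b (fl 0 a RL))).all fun d =>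
    (fl 0 d (fl 0 c (fl 0 b (fl 0 a RL)))).isEmpty && (fl 1 b (fl 1 a RL)).any fun r => r + r == a + b + c + d

theorem chk1_eq : chk1 = true := by decide +kernel

/-- the data of a subsystem `3 A₂` -/
def ok2 (a b a₁ b₁ a₂ b₂ : T6) : Bool :=
  ip a₁ b₁ == -1 && ip a₂ b₂ == -1 && ip a₁ a₂ == 0 && ip a₁ b₂ == 0 && ip b₁ a₂ == 0 && ip b₁ b₂ == 0 &&
  ((fl 0 b (fl 0 a RL)).all fun x => x == a₁ || x == -a₁ || x == b₁ || x == -b₁ || x == a₁ + b₁ || x == -(a₁ + b₁) ||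
    x == a₂ || x == -a₂ || x == b₂ || x == -b₂ || x == a₂ + b₂ || x == -(a₂ + b₂)) &&
  SL.all fun x => (3 : ℤ) • x == (2 * ip x a + ip x b) • a + (ip x a + 2 * ip x b) • b + (2 * ip x a₁ + ip x b₁) • a₁ +
    (ip x a₁ + 2 * ip x b₁) • b₁ + (2 * ip x a₂ + ip x b₂) • a₂ + (ip x a₂ + 2 * ip x b₂) • b₂

/-- subsystems `A₂` -/
def chk2 : Bool := SL.all fun a => (fl (-1) a RL).all fun b => (fl 0 b (fl 0 a RL)).any fun a₁ =>
  (fl (-1) a₁ (fl 0 b (fl 0 a RL))).any fun b₁ => (fl 0 b₁ (fl 0 a₁ (fl 0 b (fl 0 a RL)))).any fun a₂ =>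
    (fl (-1) a₂ (fl 0 b (fl 0 a RL))).any fun b₂ => ok2 a b a₁ b₁ a₂ b₂

theorem chk2_eq : chk2 = true := by decide +kernel

theorem vec_mem : ∀ s < 72, vt (vec chevE6 6 s) ∈ RL := by decide +kernel

theorem mem_vec : (RL.all fun x => (List.range 72).any fun s => vt (vec chevE6 6 s) == x) = true := by decide +kernel

theorem cartan_eq : ∀ i j : Fin 6, cartanOf chevE6 6 i j = (![![2, 0, -1, 0, 0, 0], ![0, 2, 0, -1, 0, 0],
    ![-1, 0, 2, -1, 0, 0], ![0, -1, -1, 2, -1, 0], ![0, 0, 0, -1, 2, -1], ![0, 0, 0, 0, -1, 2]] : Fin 6 → Fin 6 → ℤ) i j := by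
  decide +kernel

theorem sr_mem : ∀ i : Fin 6, vt (sr i) ∈ SL := by decide +kernel

theorem tv_add (x y : T6) : tv (x + y) = tv x + tv y := by funext i; fin_cases i <;> rfl

theorem tv_neg (x : T6) : tv (-x) = -tv x := by funext i; fin_cases i <;> rfl

theorem tv_smul (c : ℤ) (x : T6) : tv (c • x) = c • tv x := by funext i; fin_cases i <;> rfl

theorem ne4 : ∀ i j : Fin 6, CoxeterMatrix.E₆ i j ≠ 4 := fun i j => by
  fin_cases i <;> fin_cases j <;> decide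

theorem ne6 : ∀ i j : Fin 6, CoxeterMatrix.E₆ i j ≠ 6 := fun i j => by
  fin_cases i <;> fin_cases j <;> decide

section Main

variable {W : Type*} [Group W] [Finite W] (hp : IsType chevE6 6 CoxeterMatrix.E₆) (cs : CoxeterSystem CoxeterMatrix.E₆ W)

theorem root_iff (x : T6) : IsRoot cs hp.isCartan (tv x) ↔ x ∈ RL := by
  rw [isRoot_iff hp cs]
  constructor
  · rintro ⟨s, hs, h⟩
    have h1 := vec_mem s hs
    rwa [h] at h1
  · intro h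
    obtain ⟨s, hs, h1⟩ := List.any_eq_true.1 (List.all_eq_true.1 mem_vec x h)
    exact ⟨s, List.mem_range.1 hs, by rw [← beq_iff_eq.1 h1, tv_vt]⟩

theorem cpr_tv (x : T6) {y : T6} (hy : y ∈ RL) : cpr cs hp.isCartan (tv x) (tv y) = ip x y := by
  rw [Nodes.SimplyLaced.cpr_eq_sum cs hp.isCartan ne4 ne6 _ ((root_iff hp cs y).2 hy)]
  simp only [pairing, cartan_eq, Fin.sum_univ_six, tv, ip, dt, co]
  simp
  ring

theorem cpr_comm {x y : Fin 6 → ℤ} (hx : IsRoot cs hp.isCartan x) (hy : IsRoot cs hp.isCartan y) :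
    cpr cs hp.isCartan x y = cpr cs hp.isCartan y x :=
  Nodes.SimplyLaced.cpr_symm cs hp.isCartan ne4 ne6 hx hy

theorem exists_tv (w : W) {b : Fin 6 → ℤ} (hb : IsRoot cs hp.isCartan b) :
    ∃ y ∈ RL, b = rep cs hp.isCartan w (tv y) :=
  ⟨vt (rep cs hp.isCartan w⁻¹ b), (root_iff hp cs _).1 (by rw [tv_vt]; exact hb.act _), by
    rw [tv_vt, rep_apply_inv]⟩

theorem exists_sl {a : Fin 6 → ℤ} (ha : IsRoot cs hp.isCartan a) :
    ∃ (w : W), ∃ x ∈ SL, a = rep cs hp.isCartan w (tv x) := by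
  obtain ⟨w, i, rfl⟩ := ha
  exact ⟨w, _, sr_mem i, by rw [tv_vt]⟩

theorem cpr_w (w : W) (x : T6) {y : T6} (hy : y ∈ RL) :
    cpr cs hp.isCartan (rep cs hp.isCartan w (tv x)) (rep cs hp.isCartan w (tv y)) = ip x y := by
  rw [cpr_rep cs _ w _ ((root_iff hp cs y).2 hy), cpr_tv hp cs x hy]

theorem root_w (w : W) {y : T6} (hy : y ∈ RL) : IsRoot cs hp.isCartan (rep cs hp.isCartan w (tv y)) :=
  ((root_iff hp cs y).2 hy).act w

theorem chk1_at {a b c : T6} (ha : a ∈ SL) (hb : b ∈ RL) (hc : c ∈ RL) (hab : ip a b = 0) (hac : ip a c = 0)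
    (hbc : ip b c = 0) : (∃ d ∈ RL, ip a d = 0 ∧ ip b d = 0 ∧ ip c d = 0) ∧
      ∀ d ∈ RL, ip a d = 0 → ip b d = 0 → ip c d = 0 → (∃ r ∈ RL, r + r = a + b + c + d) ∧
        ∀ e ∈ RL, ip a e = 0 → ip b e = 0 → ip c e = 0 → ip d e ≠ 0 := by
  have h1 := List.all_eq_true.1 (List.all_eq_true.1 (List.all_eq_true.1 chk1_eq a ha) b (mem_fl.2 ⟨hb, hab⟩)) c
    (mem_fl.2 ⟨mem_fl.2 ⟨hc, hac⟩, hbc⟩)
  rw [Bool.and_eq_true, Bool.not_eq_true', List.isEmpty_eq_false_iff_exists_mem] at h1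
  obtain ⟨⟨d, hd⟩, h2⟩ := h1
  simp only [mem_fl] at hd
  refine ⟨⟨d, hd.1.1.1, hd.1.1.2, hd.1.2, hd.2⟩, fun d hd h3 h4 h5 => ?_⟩
  have h6 := List.all_eq_true.1 h2 d (mem_fl.2 ⟨mem_fl.2 ⟨mem_fl.2 ⟨hd, h3⟩, h4⟩, h5⟩)
  rw [Bool.and_eq_true, List.isEmpty_iff, List.any_eq_true] at h6
  obtain ⟨h7, r, hr, h8⟩ := h6
  refine ⟨⟨r, (mem_fl.1 (mem_fl.1 hr).1).1, beq_iff_eq.1 h8⟩, fun e he e1 e2 e3 e4 => ?_⟩
  have h9 : e ∈ fl 0 d (fl 0 c (fl 0 b (fl 0 a RL))) :=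
    mem_fl.2 ⟨mem_fl.2 ⟨mem_fl.2 ⟨mem_fl.2 ⟨he, e1⟩, e2⟩, e3⟩, e4⟩
  rw [h7] at h9
  exact List.not_mem_nil h9

/-- three mutually orthogonal roots have a common orthogonal root -/
theorem three_orth {a b c : Fin 6 → ℤ} (ha : IsRoot cs hp.isCartan a) (hb : IsRoot cs hp.isCartan b)
    (hc : IsRoot cs hp.isCartan c) (hab : cpr cs hp.isCartan a b = 0) (hac : cpr cs hp.isCartan a c = 0)
    (hbc : cpr cs hp.isCartan b c = 0) : ∃ d, IsRoot cs hp.isCartan d ∧ cpr cs hp.isCartan a d = 0 ∧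
      cpr cs hp.isCartan b d = 0 ∧ cpr cs hp.isCartan c d = 0 := by
  obtain ⟨w, a, ha', rfl⟩ := exists_sl hp cs ha
  replace ha := ha'
  obtain ⟨b, hb', rfl⟩ := exists_tv hp cs w hb
  replace hb := hb'
  obtain ⟨c, hc', rfl⟩ := exists_tv hp cs w hc
  replace hc := hc'
  rw [cpr_w hp cs w _ hb] at hab
  rw [cpr_w hp cs w _ hc] at hac hbc
  obtain ⟨d, hd, h1, h2, h3⟩ := (chk1_at ha hb hc hab hac hbc).1
  exact ⟨_, root_w hp cs w hd, by rw [cpr_w hp cs w _ hd, h1], by rw [cpr_w hp cs w _ hd, h2],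
    by rw [cpr_w hp cs w _ hd, h3]⟩

/-- half the sum of four mutually orthogonal roots is a root -/
theorem four_orth {a b c d : Fin 6 → ℤ} (ha : IsRoot cs hp.isCartan a) (hb : IsRoot cs hp.isCartan b)
    (hc : IsRoot cs hp.isCartan c) (hd : IsRoot cs hp.isCartan d) (hab : cpr cs hp.isCartan a b = 0)
    (hac : cpr cs hp.isCartan a c = 0) (had : cpr cs hp.isCartan a d = 0) (hbc : cpr cs hp.isCartan b c = 0)
    (hbd : cpr cs hp.isCartan b d = 0) (hcd : cpr cs hp.isCartan c d = 0) :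
    ∃ r, IsRoot cs hp.isCartan r ∧ r + r = a + b + c + d := by
  obtain ⟨w, a, ha', rfl⟩ := exists_sl hp cs ha
  replace ha := ha'
  obtain ⟨b, hb', rfl⟩ := exists_tv hp cs w hb
  replace hb := hb'
  obtain ⟨c, hc', rfl⟩ := exists_tv hp cs w hc
  replace hc := hc'
  obtain ⟨d, hd', rfl⟩ := exists_tv hp cs w hd
  replace hd := hd'
  rw [cpr_w hp cs w _ hb] at hab
  rw [cpr_w hp cs w _ hc] at hac hbc
  rw [cpr_w hp cs w _ hd] at had hbd hcd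
  obtain ⟨r, hr, h1⟩ := ((chk1_at ha hb hc hab hac hbc).2 d hd had hbd hcd).1
  refine ⟨_, root_w hp cs w hr, ?_⟩
  simp only [← map_add, ← tv_add, h1]

/-- there are no five mutually orthogonal roots -/
theorem five_orth {a b c d e : Fin 6 → ℤ} (ha : IsRoot cs hp.isCartan a) (hb : IsRoot cs hp.isCartan b)
    (hc : IsRoot cs hp.isCartan c) (hd : IsRoot cs hp.isCartan d) (he : IsRoot cs hp.isCartan e)
    (hab : cpr cs hp.isCartan a b = 0) (hac : cpr cs hp.isCartan a c = 0) (had : cpr cs hp.isCartan a d = 0)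
    (hae : cpr cs hp.isCartan a e = 0) (hbc : cpr cs hp.isCartan b c = 0) (hbd : cpr cs hp.isCartan b d = 0)
    (hbe : cpr cs hp.isCartan b e = 0) (hcd : cpr cs hp.isCartan c d = 0) (hce : cpr cs hp.isCartan c e = 0)
    (hde : cpr cs hp.isCartan d e = 0) : False := by
  obtain ⟨w, a, ha', rfl⟩ := exists_sl hp cs ha
  replace ha := ha'
  obtain ⟨b, hb', rfl⟩ := exists_tv hp cs w hb
  replace hb := hb'
  obtain ⟨c, hc', rfl⟩ := exists_tv hp cs w hc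
  replace hc := hc'
  obtain ⟨d, hd', rfl⟩ := exists_tv hp cs w hd
  replace hd := hd'
  obtain ⟨e, he', rfl⟩ := exists_tv hp cs w he
  replace he := he'
  rw [cpr_w hp cs w _ hb] at hab
  rw [cpr_w hp cs w _ hc] at hac hbc
  rw [cpr_w hp cs w _ hd] at had hbd hcd
  rw [cpr_w hp cs w _ he] at hae hbe hce hde
  exact ((chk1_at ha hb hc hab hac hbc).2 d hd had hbd hcd).2 e he hae hbe hce hde

/-- the roots `a, b; a₁, b₁; a₂, b₂` form a base of a subsystem `3 A₂` -/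
structure A2T (a b a₁ b₁ a₂ b₂ : Fin 6 → ℤ) : Prop where
  ra₁ : IsRoot cs hp.isCartan a₁
  rb₁ : IsRoot cs hp.isCartan b₁
  ra₂ : IsRoot cs hp.isCartan a₂
  rb₂ : IsRoot cs hp.isCartan b₂
  aa₁ : cpr cs hp.isCartan a a₁ = 0
  ab₁ : cpr cs hp.isCartan a b₁ = 0
  aa₂ : cpr cs hp.isCartan a a₂ = 0
  ab₂ : cpr cs hp.isCartan a b₂ = 0
  ba₁ : cpr cs hp.isCartan b a₁ = 0
  bb₁ : cpr cs hp.isCartan b b₁ = 0
  ba₂ : cpr cs hp.isCartan b a₂ = 0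
  bb₂ : cpr cs hp.isCartan b b₂ = 0
  a₁b₁ : cpr cs hp.isCartan a₁ b₁ = -1
  a₂b₂ : cpr cs hp.isCartan a₂ b₂ = -1
  a₁a₂ : cpr cs hp.isCartan a₁ a₂ = 0
  a₁b₂ : cpr cs hp.isCartan a₁ b₂ = 0
  b₁a₂ : cpr cs hp.isCartan b₁ a₂ = 0
  b₁b₂ : cpr cs hp.isCartan b₁ b₂ = 0
  perp : ∀ x, IsRoot cs hp.isCartan x → cpr cs hp.isCartan a x = 0 → cpr cs hp.isCartan b x = 0 →
    (x = a₁ ∨ x = -a₁ ∨ x = b₁ ∨ x = -b₁ ∨ x = a₁ + b₁ ∨ x = -(a₁ + b₁)) ∨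
      (x = a₂ ∨ x = -a₂ ∨ x = b₂ ∨ x = -b₂ ∨ x = a₂ + b₂ ∨ x = -(a₂ + b₂))
  span : ∀ x : Fin 6 → ℤ, (3 : ℤ) • x ∈ Submodule.span ℤ {a, b, a₁, b₁, a₂, b₂}

/-- the roots orthogonal to a subsystem `A₂` -/
theorem a2_triple {a b : Fin 6 → ℤ} (ha : IsRoot cs hp.isCartan a) (hb : IsRoot cs hp.isCartan b)
    (hab : cpr cs hp.isCartan a b = -1) : ∃ a₁ b₁ a₂ b₂, A2T hp cs a b a₁ b₁ a₂ b₂ := by
  obtain ⟨w, a, ha', rfl⟩ := exists_sl hp cs ha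
  replace ha := ha'
  obtain ⟨b, hb', rfl⟩ := exists_tv hp cs w hb
  replace hb := hb'
  rw [cpr_w hp cs w _ hb] at hab
  have h1 := List.all_eq_true.1 (List.all_eq_true.1 chk2_eq a ha) b (mem_fl.2 ⟨hb, hab⟩)
  simp only [List.any_eq_true, mem_fl] at h1
  obtain ⟨a₁, ⟨⟨r1, p1⟩, q1⟩, b₁, ⟨⟨⟨r2, p2⟩, q2⟩, -⟩, a₂, ⟨⟨⟨⟨r3, p3⟩, q3⟩, -⟩, -⟩, b₂, ⟨⟨⟨r4, p4⟩, q4⟩, -⟩, h2⟩ := h1
  simp only [ok2, Bool.and_eq_true, beq_iff_eq, List.all_eq_true, Bool.or_eq_true, mem_fl] at h2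
  obtain ⟨⟨⟨⟨⟨⟨⟨g1, g2⟩, g3⟩, g4⟩, g5⟩, g6⟩, g7⟩, g8⟩ := h2
  refine ⟨_, _, _, _, root_w hp cs w r1, root_w hp cs w r2, root_w hp cs w r3, root_w hp cs w r4,
    by rw [cpr_w hp cs w _ r1, p1], by rw [cpr_w hp cs w _ r2, p2], by rw [cpr_w hp cs w _ r3, p3],
    by rw [cpr_w hp cs w _ r4, p4], by rw [cpr_w hp cs w _ r1, q1], by rw [cpr_w hp cs w _ r2, q2],
    by rw [cpr_w hp cs w _ r3, q3], by rw [cpr_w hp cs w _ r4, q4], by rw [cpr_w hp cs w _ r2, g1],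
    by rw [cpr_w hp cs w _ r4, g2], by rw [cpr_w hp cs w _ r3, g3], by rw [cpr_w hp cs w _ r4, g4],
    by rw [cpr_w hp cs w _ r3, g5], by rw [cpr_w hp cs w _ r4, g6], fun x hx x1 x2 => ?_, fun x => ?_⟩
  · obtain ⟨x, hx', rfl⟩ := exists_tv hp cs w hx
    replace hx := hx'
    rw [cpr_w hp cs w _ hx] at x1 x2
    simp only [← map_add, ← map_neg, ← tv_add, ← tv_neg]
    rcases g7 x ⟨⟨hx, x1⟩, x2⟩ with (((((((((((h | h) | h) | h) | h) | h) | h) | h) | h) | h) | h) | h) <;> simp only [h] <;>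
      simp only [true_or, or_true]
  · have key : ∀ y ∈ SL, (3 : ℤ) • rep cs hp.isCartan w (tv y) ∈ Submodule.span ℤ {rep cs hp.isCartan w (tv a),
        rep cs hp.isCartan w (tv b), rep cs hp.isCartan w (tv a₁), rep cs hp.isCartan w (tv b₁),
        rep cs hp.isCartan w (tv a₂), rep cs hp.isCartan w (tv b₂)} := by
      intro y hy
      rw [← map_smul, ← tv_smul, g8 y hy]
      simp only [tv_add, tv_smul, map_add, map_smul]
      refine add_mem (add_mem (add_mem (add_mem (add_mem ?_ ?_) ?_) ?_) ?_) ?_ <;>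
        exact Submodule.smul_mem _ _ (Submodule.subset_span (by simp))
    rw [← rep_apply_inv cs hp.isCartan w x, Nodes.SimplyLaced.eq_sum_sr (rep cs hp.isCartan w⁻¹ x), map_sum,
      Finset.smul_sum]
    refine Submodule.sum_mem _ fun i _ => ?_
    rw [map_smul, smul_comm, ← tv_vt (sr i)]
    exact Submodule.smul_mem _ _ (key _ (sr_mem i))

variable {hp cs} in
/-- an additive map fixing the six roots is the identity -/
theorem A2T.fix {a b a₁ b₁ a₂ b₂ : Fin 6 → ℤ} (h : A2T hp cs a b a₁ b₁ a₂ b₂) (f : (Fin 6 → ℤ) →+ (Fin 6 → ℤ))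
    (h1 : f a = a) (h2 : f b = b) (h3 : f a₁ = a₁) (h4 : f b₁ = b₁) (h5 : f a₂ = a₂) (h6 : f b₂ = b₂) (x : Fin 6 → ℤ) :
    f x = x := by
  have key : ∀ y ∈ Submodule.span ℤ {a, b, a₁, b₁, a₂, b₂}, f y = y := by
    intro y hy
    induction hy using Submodule.span_induction with
    | mem y hy => rcases hy with rfl | rfl | rfl | rfl | rfl | rfl <;> assumption
    | zero => exact map_zero f
    | add y z _ _ hy hz => rw [map_add, hy, hz]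
    | smul c y _ hy => rw [map_zsmul, hy]
  have h7 := key _ (h.span x)
  rw [map_zsmul] at h7
  exact smul_right_injective _ (by norm_num : (3 : ℤ) ≠ 0) h7

end Main

end Cfsg.Agent.SB.Exc.W
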